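import Mathlib

set_option autoImplicit false

namespace Cfsg.Agent.Lib.SylowAux58

open Subgroup

variable {G : Type*} [Group G] [Finite G] {p : ℕ} [Fact p.Prime]

/-- A Sylow subgroup meets a normal subgroup in a Sylow subgroup. -/
theorem not_dvd_relIndex_normal (S : Sylow p G) (K : Subgroup G) [K.Normal] :
    ¬ p ∣ (S : Subgroup G).relIndex K := by
  intro h
  apply S.not_dvd_index
  refine h.trans ?_
  have hpos : 0 < K.relIndex (S : Subgroup G) := Nat.pos_of_ne_zero
    Subgroup.index_ne_zero_of_finite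
  have e1 : Nat.card ((S : Subgroup G) ⊔ K : Subgroup G) =
      Nat.card K * K.relIndex (S : Subgroup G) := by
    rw [← relIndex_sup_right, ← relIndex_bot_left, ← relIndex_bot_left,
      relIndex_mul_relIndex _ _ _ bot_le le_sup_right]
  have e2 : Nat.card (S : Subgroup G) = Nat.card ((S : Subgroup G) ⊓ K : Subgroup G) *
      K.relIndex (S : Subgroup G) := by
    rw [← inf_relIndex_left (S : Subgroup G) K, ← relIndex_bot_left, ← relIndex_bot_left,
      relIndex_mul_relIndex _ _ _ bot_le inf_le_left]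
  have e3 : Nat.card K = Nat.card ((S : Subgroup G) ⊓ K : Subgroup G) *
      (S : Subgroup G).relIndex K := by
    rw [← inf_relIndex_right (S : Subgroup G) K, ← relIndex_bot_left, ← relIndex_bot_left,
      relIndex_mul_relIndex _ _ _ bot_le inf_le_right]
  have e4 : Nat.card (S : Subgroup G) * (S : Subgroup G).relIndex ((S : Subgroup G) ⊔ K) =
      Nat.card ((S : Subgroup G) ⊔ K : Subgroup G) := by
    rw [← relIndex_bot_left, ← relIndex_bot_left, relIndex_mul_relIndex _ _ _ bot_le le_sup_left]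
  have : (S : Subgroup G).relIndex ((S : Subgroup G) ⊔ K) = (S : Subgroup G).relIndex K := by
    rw [e1, e2, e3] at e4
    have hi : 0 < Nat.card ((S : Subgroup G) ⊓ K : Subgroup G) := Nat.card_pos
    exact Nat.eq_of_mul_eq_mul_left (Nat.mul_pos hi hpos) (by linarith)
  rw [← this]
  exact relIndex_dvd_index_of_le le_sup_left

/-- The Sylow subgroup `S ⊓ K` of a normal subgroup `K`. -/
theorem exists_sylow_map_eq_inf (S : Sylow p G) (K : Subgroup G) [K.Normal] :
    ∃ P : Sylow p K, (P : Subgroup K).map K.subtype = (S : Subgroup G) ⊓ K := by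
  have hp : IsPGroup p ((S : Subgroup G).subgroupOf K) :=
    S.2.comap_of_injective K.subtype K.subtype_injective
  have hi : ¬ p ∣ ((S : Subgroup G).subgroupOf K).index := by
    have := not_dvd_relIndex_normal S K
    rwa [Subgroup.relIndex] at this
  refine ⟨hp.toSylow hi, ?_⟩
  rw [show ((hp.toSylow hi : Sylow p K) : Subgroup K) = (S : Subgroup G).subgroupOf K from rfl,
    subgroupOf_map_subtype]

/-- Frattini's argument for `S ⊓ K`. -/
theorem normalizer_inf_sup_eq_top (S : Sylow p G) (K : Subgroup G) [K.Normal] :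
    normalizer (((S : Subgroup G) ⊓ K : Subgroup G) : Set G) ⊔ K = ⊤ := by
  obtain ⟨P, hP⟩ := exists_sylow_map_eq_inf S K
  rw [← hP]
  exact Sylow.normalizer_sup_eq_top P

/-- If `K / C` is a `p`-group then `C` and `S ⊓ K` generate `K`. -/
theorem sup_inf_eq_of_relIndex_pow (S : Sylow p G) (C K : Subgroup G) [K.Normal] (hCK : C ≤ K)
    {k : ℕ} (hk : C.relIndex K = p ^ k) : C ⊔ ((S : Subgroup G) ⊓ K) = K := by
  refine le_antisymm (sup_le hCK inf_le_right) ?_
  rw [← relIndex_eq_one]
  have h1 : (C ⊔ ((S : Subgroup G) ⊓ K)).relIndex K ∣ p ^ k :=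
    hk ▸ relIndex_dvd_of_le_left K le_sup_left
  obtain ⟨j, -, hj⟩ := (Nat.dvd_prime_pow Fact.out).1 h1
  rcases Nat.eq_zero_or_pos j with rfl | hj0
  · simpa using hj
  · exfalso
    refine not_dvd_relIndex_normal S K ?_
    rw [← inf_relIndex_right]
    refine dvd_trans ?_ (relIndex_dvd_of_le_left K
      (le_sup_right : _ ≤ C ⊔ ((S : Subgroup G) ⊓ K)))
    rw [hj]
    exact dvd_pow_self p hj0.ne'

end Cfsg.Agent.Lib.SylowAux58
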